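import Mathlib

/-!
Bit matrices: a list of rows acts on natural numbers read as bit vectors.
-/

set_option autoImplicit false

namespace Cfsg.Agent.Lib.Fi22Mult

/-- The exclusive sum of the rows at the set bits. -/
def bitApp : List ℕ → ℕ → ℕ
  | [], _ => 0
  | r :: rs, v => (cond (v.testBit 0) r 0) ^^^ bitApp rs (v / 2)

theorem bitApp_xor : ∀ (rs : List ℕ) (v w : ℕ),
    bitApp rs (v ^^^ w) = bitApp rs v ^^^ bitApp rs w
  | [], v, w => by simp [bitApp]
  | r :: rs, v, w => by
    simp only [bitApp, Nat.testBit_xor, Nat.xor_div_two, bitApp_xor rs]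
    cases v.testBit 0 <;> cases w.testBit 0 <;>
      simp [Nat.xor_comm, Nat.xor_left_comm, Nat.xor_assoc]

theorem bitApp_lt {n : ℕ} : ∀ (rs : List ℕ), (∀ r ∈ rs, r < 2 ^ n) → ∀ v, bitApp rs v < 2 ^ n
  | [], _, v => Nat.two_pow_pos n
  | r :: rs, h, v => by
    refine Nat.xor_lt_two_pow ?_ (bitApp_lt rs (fun q hq => h q (List.mem_cons_of_mem _ hq)) _)
    cases v.testBit 0
    · exact Nat.two_pow_pos n
    · exact h r (by simp)

/-- An additive map. -/
def BitAdditive (f : ℕ → ℕ) : Prop := ∀ v w, f (v ^^^ w) = f v ^^^ f w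

theorem BitAdditive.zero {f : ℕ → ℕ} (hf : BitAdditive f) : f 0 = 0 := by
  have h := hf 0 0
  rw [Nat.xor_self, Nat.xor_self] at h
  exact h

theorem BitAdditive.comp {f g : ℕ → ℕ} (hf : BitAdditive f) (hg : BitAdditive g) :
    BitAdditive fun v => f (g v) := fun v w => by show f (g _) = _; rw [hg, hf]

theorem BitAdditive.eq_of_basis {f g : ℕ → ℕ} (hf : BitAdditive f) (hg : BitAdditive g) :
    ∀ {n : ℕ}, (∀ i, i < n → f (2 ^ i) = g (2 ^ i)) → ∀ v, v < 2 ^ n → f v = g v
  | 0, _, v, hv => by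
    obtain rfl : v = 0 := by simpa using hv
    rw [hf.zero, hg.zero]
  | n + 1, h, v, hv => by
    have ih := BitAdditive.eq_of_basis hf hg (n := n) fun i hi => h i (by omega)
    by_cases hb : v.testBit n
    · have hlt : v ^^^ 2 ^ n < 2 ^ n := by
        refine Nat.lt_pow_two_of_testBit _ fun i hi => ?_
        rcases Nat.eq_or_lt_of_le hi with rfl | hi'
        · simp [hb]
        · simp [Nat.testBit_eq_false_of_lt (lt_of_lt_of_le hv (Nat.pow_le_pow_right (by norm_num) hi')),
            Nat.testBit_two_pow_of_ne (Nat.ne_of_lt hi')]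
      have e : v ^^^ 2 ^ n ^^^ 2 ^ n = v := by rw [Nat.xor_assoc, Nat.xor_self, Nat.xor_zero]
      rw [← e, hf, hg, ih _ hlt, h n (by omega)]
    · refine ih v (Nat.lt_pow_two_of_testBit _ fun i hi => ?_)
      rcases Nat.eq_or_lt_of_le hi with rfl | hi'
      · simpa using hb
      · exact Nat.testBit_eq_false_of_lt
          (lt_of_lt_of_le hv (Nat.pow_le_pow_right (by norm_num) hi'))

end Cfsg.Agent.Lib.Fi22Mult
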