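import Cfsg.Agent.Lib.Fi22Mult.Cube
import Cfsg.Prelude.Def_KGroupFacts

/-!
In every central extension of Fi22 the kernel meets the derived group in at most six elements.

Adjoining a square root of the common square of the lifts gives involutory lifts; the shifted lifts
satisfy all relations modulo a cyclic central group of order dividing six.
-/

set_option autoImplicit false

namespace Cfsg.Agent.Lib.Fi22Mult

open Cfsg
open scoped commutatorElement

theorem pow_six {E : Type*} [Monoid E] {a b : E} (h : Commute a b) (ha : a * a = 1)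
    (hb : b ^ 3 = 1) : (a * b) ^ 6 = 1 ∧ (a * b) ^ 3 = a ∧ (a * b) ^ 4 = b := by
  have ha2 : a ^ 2 = 1 := by rw [pow_two, ha]
  have a3 : a ^ 3 = a := by rw [pow_succ, ha2, one_mul]
  have a4 : a ^ 4 = 1 := by rw [show (4 : ℕ) = 2 * 2 from rfl, pow_mul, ha2, one_pow]
  have a6 : a ^ 6 = 1 := by rw [show (6 : ℕ) = 2 * 3 from rfl, pow_mul, ha2, one_pow]
  have b4 : b ^ 4 = b := by rw [pow_succ, hb, one_mul]
  have b6 : b ^ 6 = 1 := by rw [show (6 : ℕ) = 3 * 2 from rfl, pow_mul, hb, one_pow]
  exact ⟨by rw [h.mul_pow, a6, b6, one_mul], by rw [h.mul_pow, a3, hb, mul_one],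
    by rw [h.mul_pow, a4, b4, one_mul]⟩

theorem good_bound {E : Type} [Group E] {π : E →* Spor.Fi22} (hc : π.ker ≤ Subgroup.center E)
    {y : Node → E} (hy : Good π y) :
    ∃ c : E, c ^ 6 = 1 ∧ π.ker ⊓ commutator E ≤ Subgroup.zpowers c := by
  set v := ev y sevenA ^ 9 with hvdef
  set w := ev y sevenB ^ 9 with hwdef
  set z := ev y spider ^ 10 with hzdef
  have hv1 : π v = 1 := by rw [map_pow, ev_proj hy.toLifts, node_sevenA]
  have hw1 : π w = 1 := by rw [map_pow, ev_proj hy.toLifts, node_sevenB]
  have hz1 : π z = 1 := by rw [map_pow, ev_proj hy.toLifts, node_spider]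
  have hv := central hc hv1
  have hv2 : v * v = 1 := seven_sq hy hc movesA_ok node_sevenA
  have hw2 : w * w = 1 := seven_sq hy hc movesB_ok node_sevenB
  have hz3 : z ^ 3 = 1 := spider_cube hc hy
  have hwv : (w * v) * (w * v) = 1 := by
    rw [(hv w).mul_mul_mul_comm, hw2, hv2, one_mul]
  obtain ⟨h6, h3, h4⟩ := pow_six ((central hc hz1) (w * v)).symm hwv hz3
  set c := w * v * z with hcdef
  refine ⟨c, h6, ?_⟩
  have hc1 : π c = 1 := by rw [hcdef, map_mul, map_mul, hv1, hw1, hz1, one_mul, one_mul]
  set N := Subgroup.zpowers c with hN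
  have hNle : N ≤ π.ker := Subgroup.zpowers_le.2 hc1
  haveI : N.Normal := ⟨fun n hn g => by
    rw [(central hc (hNle hn) g).symm.eq, mul_inv_cancel_right]; exact hn⟩
  set q := QuotientGroup.mk' N with hq
  have hqv : ∀ n, v ^ (2 * n) = 1 := fun n => by rw [pow_mul, pow_two, hv2, one_pow]
  have hqc : ∀ n : ℕ, q (c ^ n) = 1 := fun n =>
    (QuotientGroup.eq_one_iff _).2 (pow_mem (Subgroup.mem_zpowers c) n)
  obtain ⟨φ, hφ⟩ := lift_node (fun x => q (y x * v))
    (fun x => by rw [← map_mul, (hv (y x)).mul_mul_mul_comm, hy.sq, hv2, mul_one, map_one])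
    (fun x z h => by
      simp only [← map_mul]
      rw [central_triple hv, central_triple hv, hy.braid x z h])
    (fun x z h => by
      show q (y x * v) * q (y z * v) = q (y z * v) * q (y x * v)
      rw [← map_mul, ← map_mul, (hv (y z)).mul_mul_mul_comm, (hv (y x)).mul_mul_mul_comm,
        (hy.comm x z h).eq])
    (by
      rw [← map_ev q, ← map_pow, ev_shift hv (fun x => rfl), ((hv _).pow_left _).symm.mul_pow,
        ← pow_mul, show spider.length * 10 = 2 * 45 from rfl, hqv, mul_one, ← hzdef, ← h4]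
      exact hqc 4)
    (by
      rw [← map_ev q, ← map_pow, ev_shift hv (fun x => rfl), ((hv _).pow_left _).symm.mul_pow,
        ← hvdef, ← pow_mul, ← pow_succ', show sevenA.length * 9 + 1 = 2 * 32 from rfl, hqv, map_one])
    (by
      rw [← map_ev q, ← map_pow, ev_shift hv (fun x => rfl), ((hv _).pow_left _).symm.mul_pow,
        ← hwdef, ← pow_mul, show sevenB.length * 9 = 2 * 31 + 1 from rfl, pow_succ, hqv, one_mul,
        ← h3]
      exact hqc 3)
  set π' := QuotientGroup.lift N π hNle with hπ'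
  have hsec : π'.comp φ = MonoidHom.id _ := by
    refine PresentedGroup.ext fun x => ?_
    show π' (φ (node x)) = node x
    rw [hφ]
    show π (y x * v) = node x
    rw [map_mul, hy.proj, hv1, mul_one]
  have hker : ∀ (e : E) (g : E ⧸ N), Commute (q e * (φ (π e))⁻¹) g := fun e g => by
    obtain ⟨k, hk⟩ := QuotientGroup.mk'_surjective N (φ (π e))
    obtain ⟨g, rfl⟩ := QuotientGroup.mk'_surjective N g
    rw [← hk, ← map_inv, ← map_mul]
    refine (central hc ?_ g).map _
    have h := DFunLike.congr_fun hsec (π e)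
    rw [MonoidHom.comp_apply, ← hk, MonoidHom.id_apply] at h
    have h : π k = π e := h
    rw [map_mul, map_inv, h, mul_inv_cancel]
  have hcomm : commutator E ≤ φ.range.comap q := by
    rw [commutator_def, Subgroup.commutator_le]
    intro a _ b _
    refine ⟨⁅π a, π b⁆, ?_⟩
    rw [map_commutatorElement, map_commutatorElement]
    conv_rhs => rw [← inv_mul_cancel_right (q a) (φ (π a)), ← inv_mul_cancel_right (q b) (φ (π b))]
    rw [commutator_central_mul (hker a), ← commutatorElement_inv,
      ← commutatorElement_inv _ (φ (π a)), commutator_central_mul (hker b)]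
  rintro e ⟨he1, he2⟩
  obtain ⟨g, hg⟩ := hcomm he2
  have hg1 : g = 1 := by
    rw [← DFunLike.congr_fun hsec g |>.trans (MonoidHom.id_apply _ g), MonoidHom.comp_apply, hg]
    exact he1
  rw [hg1, map_one] at hg
  exact (QuotientGroup.eq_one_iff e).1 hg.symm

/-- The kernel of a central extension meets the derived group in at most six elements. -/
theorem card_le_six {Y : Type} [Group Y] {τ : Y →* Spor.Fi22} (hs : Function.Surjective τ)
    (hc : τ.ker ≤ Subgroup.center Y) :
    Nat.card (τ.ker ⊓ commutator Y : Subgroup Y) ≤ 6 := by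
  obtain ⟨y, hy⟩ := exists_lifts hs hc
  set s := y .d * y .d with hsdef
  have hs1 : τ s = 1 := hy.sq_ker .d
  let P := Y × Multiplicative ℤ
  let k : P := (s, Multiplicative.ofAdd 2)
  let τP : P →* Spor.Fi22 := τ.comp (MonoidHom.fst Y _)
  have hPc : τP.ker ≤ Subgroup.center P := fun a ha => Subgroup.mem_center_iff.2 fun g =>
    Prod.ext (central hc ha g.1).eq.symm (mul_comm _ _)
  have hk1 : k ∈ τP.ker := hs1
  let Z := Subgroup.zpowers k
  have hZle : Z ≤ τP.ker := Subgroup.zpowers_le.2 hk1
  haveI : Z.Normal := ⟨fun n hn g => by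
    rw [Subgroup.mem_center_iff.1 (hPc (hZle hn)) g, mul_inv_cancel_right]; exact hn⟩
  let π : P ⧸ Z →* Spor.Fi22 := QuotientGroup.lift Z τP hZle
  let y' : Node → P ⧸ Z := fun x => QuotientGroup.mk' Z (y x, Multiplicative.ofAdd 1)
  have hc' : π.ker ≤ Subgroup.center (P ⧸ Z) := by
    intro a ha
    induction a using QuotientGroup.induction_on with
    | _ a =>
      refine Subgroup.mem_center_iff.2 fun g => ?_
      induction g using QuotientGroup.induction_on with
      | _ g => rw [← QuotientGroup.mk_mul, ← QuotientGroup.mk_mul,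
          Subgroup.mem_center_iff.1 (hPc ha) g]
  have hy' : Good π y' := by
    refine ⟨⟨fun x => hy.proj x, fun x z h => ?_⟩, fun x => ?_, fun x z h => ?_⟩
    · simp only [y', ← map_mul]
      exact congrArg _ (Prod.ext (hy.braid x z h) rfl)
    · simp only [y', ← map_mul]
      refine (QuotientGroup.eq_one_iff _).2 ?_
      have e : ((y x, Multiplicative.ofAdd (1 : ℤ)) * (y x, Multiplicative.ofAdd (1 : ℤ)) : P) = k :=
        Prod.ext (hy.sq_eq hc x) rfl
      rw [e]
      exact Subgroup.mem_zpowers k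
    · simp only [y', commute_iff_eq, ← map_mul]
      exact congrArg _ (Prod.ext (commute_lifts hy hc h).eq rfl)
  obtain ⟨c, hc6, hle⟩ := good_bound hc' hy'
  let ι : Y →* P ⧸ Z := (QuotientGroup.mk' Z).comp (MonoidHom.inl Y _)
  have hι : ∀ a, a ∈ τ.ker ⊓ commutator Y → ι a ∈ Subgroup.zpowers c := fun a ha => hle
    ⟨ha.1, by
      have h : (commutator Y).map ι ≤ commutator (P ⧸ Z) := by
        rw [commutator_def, commutator_def, Subgroup.map_commutator]
        exact Subgroup.commutator_mono le_top le_top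
      exact h ⟨a, ha.2, rfl⟩⟩
  have hinj : Function.Injective ι := by
    rw [← MonoidHom.ker_eq_bot_iff, eq_bot_iff]
    intro a ha
    obtain ⟨n, hn⟩ := Subgroup.mem_zpowers_iff.1 ((QuotientGroup.eq_one_iff _).1 ha)
    have h2 : Multiplicative.ofAdd (2 : ℤ) ^ n = 1 := congrArg Prod.snd hn
    have hn0 : n = 0 := by
      rw [← ofAdd_zsmul, ofAdd_eq_one] at h2
      simpa using h2
    subst hn0
    have h1 : (1 : Y) = a := congrArg Prod.fst ((zpow_zero k).symm.trans hn)
    exact h1.symm
  have hpos : 0 < orderOf c := orderOf_pos_iff.2 (isOfFinOrder_iff_pow_eq_one.2 ⟨6, by omega, hc6⟩)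
  haveI : Finite (Subgroup.zpowers c) :=
    Nat.finite_of_card_ne_zero (by rw [Nat.card_zpowers]; omega)
  refine (Nat.card_le_card_of_injective (fun a : (τ.ker ⊓ commutator Y : Subgroup Y) =>
    (⟨ι a, hι a a.2⟩ : Subgroup.zpowers c)) fun a b h =>
      Subtype.ext (hinj (congrArg Subtype.val h))).trans ?_
  rw [Nat.card_zpowers]
  exact Nat.le_of_dvd (by omega) (orderOf_dvd_of_pow_eq_one hc6)

end Cfsg.Agent.Lib.Fi22Mult
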