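import Cfsg.Agent.Lib.Fi22Mult.Reduce
import Cfsg.Agent.Lib.Fi23Mult.Table
import Cfsg.Agent.Lib.CosetTable.Fi23Y222.Cover
import Cfsg.Agent.Lib.CosetTable.Fi23LevelE.Cover
import Cfsg.Agent.Lib.CosetTable.Fi23LevelF.Cover
import Cfsg.Agent.Lib.CosetTable.Fi23LevelG.Cover

/-!
For involutory lifts the cube of the spider power is trivial.

The coset table of the Y222 diagram with central spider power puts this cube in the subgroup on
`b, ..., h`, which is at most a double cover of its image; after attaching a sign to every lift the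
only candidate other than the identity is ruled out by the parity of the words.
-/

set_option autoImplicit false

namespace Cfsg.Agent.Lib.Fi22Mult

open Cfsg Cfsg.Agent.Lib.CosetTable
open Cfsg.Agent.Lib.Fi23Mult (relabel mem_of_walk_sub)
open scoped commutatorElement

/-- The letters of the Y222 subgroup. -/
def sigma : List ℕ := [1, 2, 3, 4, 5, 7, 8]

/-- The spider word ten times. -/
def spiderWord : List ℕ := (List.replicate 10 [8, 7, 3, 5, 4, 3, 1, 2, 3]).flatten

/-- The spider word ten times, in the letters of the Y222 table. -/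
def spiderLocal : List ℕ := (List.replicate 10 [6, 5, 2, 4, 3, 2, 0, 1, 2]).flatten

/-- Relators: the graph, and centrality of the spider power on the Y222 subgroup. -/
def topRels : List (List ℕ) :=
  S1687.pres.coxE.map WExp.word ++
    sigma.map fun x => [3, 2, 1, 3, 4, 5, 3, 7, 8, 3, 2, 1, 3, 4, 5, 3, 7, 8, 3, 2, 1, 3, 4, 5, 3, 7,
      8, 3, 2, 1, 3, 4, 5, 3, 7, 8, 3, 2, 1, 3, 4, 5, 3, 7, 8, 3, 2, 1, 3, 4, 5, 3, 7, 8, 3, 2, 1, 3,
      4, 5, 3, 7, 8, 3, 2, 1, 3, 4, 5, 3, 7, 8, 3, 2, 1, 3, 4, 5, 3, 7, 8, 3, 2, 1, 3, 4, 5, 3, 7,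
      8] ++ [x] ++ spiderWord ++ [x]

/-- The relators as a certificate with empty data. -/
def topCert : Cert where
  k := 9
  rels := topRels
  subs := []
  rules := .leaf 9 [] 0 0
  facts := .leaf 0
  defs := .leaf 0

theorem sub_ok : subOK topCert Fi23Y222.cert sigma = true := by decide +kernel

theorem subs_eq : Fi23Y222.cert.subs.map (relabel sigma) = [[1], [2], [3], [4], [5], [7]] := by
  decide +kernel

theorem walk_ok : Fi23Y222.tab.walk (spiderLocal.reverse ++ spiderLocal.reverse ++ spiderLocal.reverse) 0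
    = 0 := by decide +kernel

theorem spiderWord_rev : spiderWord.reverse = [3, 2, 1, 3, 4, 5, 3, 7, 8, 3, 2, 1, 3, 4, 5, 3, 7, 8,
      3, 2, 1, 3, 4, 5, 3, 7, 8, 3, 2, 1, 3, 4, 5, 3, 7, 8, 3, 2, 1, 3, 4, 5, 3, 7, 8, 3, 2, 1, 3, 4,
      5, 3, 7, 8, 3, 2, 1, 3, 4, 5, 3, 7, 8, 3, 2, 1, 3, 4, 5, 3, 7, 8, 3, 2, 1, 3, 4, 5, 3, 7, 8, 3,
      2, 1, 3, 4, 5, 3, 7, 8] := by
  decide +kernel

/-- The letters of E7. -/
def e7Subs : List (List ℕ) := [[1], [2], [3], [4], [5], [6], [7]]

/-- The subgroup of Fi22 on the letters of E7 has at least half the order of the Weyl group. -/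
theorem seven_lower : 1451520 ≤ Nat.card (wordSubgroup S1696.gn e7Subs) := by
  have M := S1696.model_act
  have hfin : Finite Spor.Fi22 := S1696.order_le.1
  have h2 : OrderLE S1696.gn ([1, 2, 3, 4, 5, 6, 7].map fun a => [a])
      (Nat.card (wordSubgroup S1696.gn ([1, 2, 3, 4, 5, 6, 7].map fun a => [a]))) :=
    ⟨inferInstance, le_rfl⟩
  have h3 := orderLE_step M [1, 2, 3, 4, 5, 6, 7, 8] (by decide +kernel) Fi22LevelI.cover h2
  have h4 := orderLE_step M (List.range 9) (by decide +kernel) Fi22b.checked.toCover h3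
  have h := (finite_card_top M h4).2
  rw [S1696.result.2, show Fi22b.tab.n = 14080 from rfl,
    show Fi22LevelI.tab.n = 3159 from rfl] at h
  show 1451520 ≤ Nat.card (wordSubgroup S1696.gn ([1, 2, 3, 4, 5, 6, 7].map fun a => [a]))
  omega

theorem eval_pres {M : Type*} [Group M] (y : Node → M) : ∀ w : List ℕ,
    eval (fun n => y (S1687.pres.gen n)) w = ev y (w.map S1687.pres.gen).reverse
  | [] => by simp [eval, ev]
  | a :: w => by simp [eval, eval_pres y w, ev]

theorem ev_replicate {M : Type*} [Monoid M] (y : Node → M) (l : List Node) : ∀ n : ℕ,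
    ev y (List.replicate n l).flatten = ev y l ^ n
  | 0 => by simp [ev]
  | n + 1 => by
    rw [pow_succ', ← ev_replicate y l n]
    simp [ev, List.replicate_succ]

theorem eval_spiderWord {M : Type*} [Group M] (y : Node → M) :
    eval (fun n => y (S1687.pres.gen n)) spiderWord = ev y spider ^ 10 := by
  rw [eval_pres, show (spiderWord.map S1687.pres.gen).reverse =
    (List.replicate 10 spider).flatten by decide +kernel, ev_replicate]

section Extension

variable {E : Type} [Group E] {π : E →* Spor.Fi22} {y : Node → E}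

theorem cube_or (hc : π.ker ≤ Subgroup.center E) (hy : Good π y)
    (hgen : Subgroup.closure (Set.range y) = ⊤) (hw : ev y sevenB ^ 9 ≠ 1) :
    (ev y spider ^ 10) ^ 3 = 1 ∨ (ev y spider ^ 10) ^ 3 = ev y sevenB ^ 9 := by
  set f : ℕ → E := fun n => y (S1687.pres.gen n) with hf
  have hinv : ∀ n, f n * f n = 1 := fun n => hy.sq _
  have hπ : ∀ w, π (eval f w) = eval S1696.gn w := by
    intro w
    induction w with
    | nil => simp [eval]
    | cons a w ih =>
      rw [eval, eval, map_mul, ih]
      exact congrArg (eval S1696.gn w * ·) ((hy.proj _).trans (gn_eq a).symm)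
  set u := ev y spider ^ 10 with hu
  have hu1 : π u = 1 := by rw [map_pow, ev_proj hy.toLifts, node_spider]
  have huc := central hc hu1
  have huf : eval f spiderWord = u := eval_spiderWord y
  have hwords : topCert.wordsOK = true := by decide +kernel
  have hgen' : Subgroup.closure {x | ∃ g, g < 9 ∧ f g = x} = ⊤ := by
    rw [eq_top_iff, ← hgen]
    refine Subgroup.closure_mono ?_
    rintro _ ⟨x, rfl⟩
    exact ⟨S1687.pres.idx x, S1687.pres_good.idx_lt x, by simp [hf, S1687.pres_good.gen_idx]⟩
  have hrel : ∀ w ∈ topCert.rels, eval f w = 1 := by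
    intro w hw
    change w ∈ topRels at hw
    rw [topRels, List.mem_append, List.mem_map, List.mem_map] at hw
    rcases hw with ⟨e, he, rfl⟩ | ⟨x, -, rfl⟩
    · simp only [Pres.coxE, List.mem_flatMap, List.mem_range, List.mem_range'_1, List.mem_map] at he
      obtain ⟨p, hp, q, hq, rfl⟩ := he
      have hl : ∀ a ∈ (WExp.pow (.mul (.of p) (.of q)) (Spor.coxLabel S1687.pres.edges
          (S1687.pres.gen p) (S1687.pres.gen q))).word, a < 9 := by
        intro a ha
        simp only [WExp.word, List.mem_flatten, List.mem_replicate] at ha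
        obtain ⟨l, ⟨-, rfl⟩, ha⟩ := ha
        simp only [List.singleton_append, List.mem_cons, List.not_mem_nil, or_false] at ha
        have : p < 9 := hp
        have : q < 9 := by
          have hk : S1687.pres.k = 9 := rfl
          omega
        rcases ha with rfl | rfl <;> assumption
      rw [← lift_word_eq_one_iff (g := y) (gen := S1687.pres.gen) f (fun n _ => rfl)
        (fun n _ => hinv n) _ hl]
      simp only [WExp.free, map_pow, map_mul, FreeGroup.lift_apply_of]
      set X := S1687.pres.gen p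
      set Z := S1687.pres.gen q
      show (y X * y Z) ^ Spor.coxLabel Spor.Fi22.edges X Z = 1
      by_cases hne : X = Z
      · rw [hne]; simp [Spor.coxLabel, hy.sq]
      rcases label_cases X Z hne with ⟨ha, hl⟩ | ⟨ha, hl⟩
      · rw [hl]
        calc (y X * y Z) ^ 3 = (y X * y Z * y X) * (y Z * y X * y Z) := by
              simp only [pow_succ, pow_zero, one_mul, mul_assoc]
          _ = (y X * y Z * y X) * (y X * y Z * y X) := by rw [hy.braid X Z ha]
          _ = y X * y Z * (y X * y X) * y Z * y X := by simp only [mul_assoc]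
          _ = y X * (y Z * y Z) * y X := by rw [hy.sq, mul_one]; simp only [mul_assoc]
          _ = 1 := by rw [hy.sq, mul_one, hy.sq]
      · rw [hl, pow_two]
        calc y X * y Z * (y X * y Z) = y X * (y Z * y X) * y Z := by simp only [mul_assoc]
          _ = y X * y X * (y Z * y Z) := by rw [← (hy.comm X Z ha).eq]; simp only [mul_assoc]
          _ = 1 := by rw [hy.sq, hy.sq, mul_one]
    · rw [← spiderWord_rev]
      simp only [eval_append, eval, one_mul, eval_reverse f spiderWord (fun a _ => hinv a), huf]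
      rw [← mul_assoc u, (huc (f x)).eq, mul_assoc (f x) u, mul_inv_cancel, mul_one, hinv]
  have M : Model f topCert := ⟨hwords, fun g _ => hinv g, hrel, hgen'⟩
  have hE := orderLE_step M [2, 3, 4, 5, 7] (by decide +kernel) Fi23LevelE.cover (orderLE_nil _)
  have hF := orderLE_step M [2, 3, 4, 5, 6, 7] (by decide +kernel) Fi23LevelF.cover hE
  have hG := orderLE_step M [1, 2, 3, 4, 5, 6, 7] (by decide +kernel) Fi23LevelG.cover hF
  rw [show Fi23LevelG.tab.n = 126 from rfl, show Fi23LevelF.tab.n = 12 from rfl,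
    show Fi23LevelE.tab.n = 1920 from rfl] at hG
  have hG : OrderLE f e7Subs (126 * (12 * (1920 * 1))) := hG
  set H7 := wordSubgroup f e7Subs with hH7
  have hmap : H7.map π = wordSubgroup S1696.gn e7Subs := by
    rw [hH7, wordSubgroup, MonoidHom.map_closure, wordSubgroup]
    refine congrArg Subgroup.closure ?_
    ext x
    simp only [Set.mem_image, Set.mem_setOf_eq]
    constructor
    · rintro ⟨_, ⟨w, hw, rfl⟩, rfl⟩; exact ⟨w, hw, (hπ w).symm⟩
    · rintro ⟨w, hw, rfl⟩; exact ⟨_, ⟨w, hw, rfl⟩, hπ w⟩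
  haveI : Finite H7 := hG.1
  set φ := π.subgroupMap H7 with hφ
  have hsurj : Function.Surjective φ := π.subgroupMap_surjective H7
  have hker : Nat.card φ.ker ≤ 2 := by
    have h1 := Subgroup.card_mul_index φ.ker
    rw [Subgroup.index_ker, MonoidHom.range_eq_top.2 hsurj, Subgroup.card_top] at h1
    have h4 : Nat.card (H7.map π) = Nat.card (wordSubgroup S1696.gn e7Subs) := by rw [hmap]
    rw [h4] at h1
    have h2 := seven_lower
    have h3 : Nat.card H7 ≤ 126 * (12 * (1920 * 1)) := hG.2
    rw [← h1] at h3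
    nlinarith [Nat.mul_le_mul_left (Nat.card φ.ker) h2]
  have hwH : ev y sevenB ^ 9 ∈ H7 := by
    refine pow_mem (Subgroup.list_prod_mem _ fun z hz => ?_) _
    obtain ⟨x, hx, rfl⟩ := List.mem_map.1 hz
    refine Subgroup.subset_closure ⟨[S1687.pres.idx x], ?_, ?_⟩
    · exact (show ∀ x ∈ sevenB, [S1687.pres.idx x] ∈ e7Subs by decide) x hx
    · simp [eval, hf, S1687.pres_good.gen_idx]
  have hsix : wordSubgroup f (Fi23Y222.cert.subs.map (relabel sigma)) ≤ H7 := by
    rw [subs_eq, hH7]
    refine (Subgroup.closure_le _).2 ?_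
    rintro _ ⟨w, hw, rfl⟩
    refine Subgroup.subset_closure ⟨w, ?_, rfl⟩
    revert w
    decide
  have huH : u ^ 3 ∈ H7 := by
    have h := hsix (mem_of_walk_sub M sigma sub_ok Fi23Y222.cover (by decide +kernel) walk_ok)
    have e : relabel sigma (spiderLocal.reverse ++ spiderLocal.reverse ++ spiderLocal.reverse) =
        spiderWord.reverse ++ spiderWord.reverse ++ spiderWord.reverse := by decide +kernel
    rw [e, eval_append, eval_append, eval_reverse f spiderWord (fun a _ => hinv a), huf] at h
    have h' := inv_mem h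
    simpa [pow_succ, mul_assoc] using h'
  have hK : ∀ a (ha : a ∈ H7), π a = 1 → (⟨a, ha⟩ : H7) ∈ φ.ker := fun a ha h =>
    MonoidHom.mem_ker.2 (Subtype.ext h)
  have hw1 : π (ev y sevenB ^ 9) = 1 := by rw [map_pow, ev_proj hy.toLifts, node_sevenB]
  by_contra hcon
  rw [not_or] at hcon
  let t : Fin 3 → φ.ker := ![1, ⟨_, hK _ hwH hw1⟩,
    ⟨_, hK _ huH (by rw [map_pow, hu1, one_pow])⟩]
  have ht : Function.Injective t := by
    intro i j hij
    have e := congrArg (fun a : φ.ker => ((a : H7) : E)) hij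
    fin_cases i <;> fin_cases j <;> simp [t] at e ⊢
    · exact hw e.symm
    · exact hcon.1 e.symm
    · exact hw e
    · exact hcon.2 e.symm
    · exact hcon.1 e
    · exact hcon.2 e
  have := Nat.card_le_card_of_injective t ht
  rw [Nat.card_fin] at this
  omega

/-- The cube of the spider power is trivial. -/
theorem spider_cube (hc : π.ker ≤ Subgroup.center E) (hy : Good π y) :
    (ev y spider ^ 10) ^ 3 = 1 := by
  let σ : Multiplicative (ZMod 2) := Multiplicative.ofAdd 1
  let E' := E × Multiplicative (ZMod 2)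
  let y0 : Node → E' := fun x => (y x, σ)
  let E₁ : Subgroup E' := Subgroup.closure (Set.range y0)
  let π₁ : E₁ →* Spor.Fi22 := (π.comp (MonoidHom.fst E _)).comp E₁.subtype
  let y₁ : Node → E₁ := fun x => ⟨y0 x, Subgroup.subset_closure ⟨x, rfl⟩⟩
  have hσ : σ * σ = 1 := by decide
  have hc₁ : π₁.ker ≤ Subgroup.center E₁ := fun a ha =>
    Subgroup.mem_center_iff.2 fun g => Subtype.ext (Prod.ext
      (central hc (k := (a : E').1) ha (g : E').1).eq.symm (mul_comm _ _))
  have hy₁ : Good π₁ y₁ := by
    refine ⟨⟨fun x => hy.proj x, fun x z h => Subtype.ext (Prod.ext (hy.braid x z h) rfl)⟩,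
      fun x => Subtype.ext (Prod.ext (hy.sq x) hσ), fun x z h => ?_⟩
    exact Subtype.ext (Prod.ext (hy.comm x z h).eq rfl)
  have hgen : Subgroup.closure (Set.range y₁) = ⊤ := by
    refine Subgroup.map_injective E₁.subtype_injective ?_
    rw [MonoidHom.map_closure, ← MonoidHom.range_eq_map, Subgroup.range_subtype]
    show Subgroup.closure _ = Subgroup.closure _
    congr 1
    rw [← Set.range_comp]
    rfl
  have snd : ∀ l : List Node, ((ev y₁ l : E₁) : E').2 = σ ^ l.length := by
    intro l
    rw [show ((ev y₁ l : E₁) : E').2 = ev (fun _ => σ) l from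
      map_ev ((MonoidHom.snd E (Multiplicative (ZMod 2))).comp E₁.subtype) y₁ l]
    simp [ev]
  have fst : ∀ l : List Node, ((ev y₁ l : E₁) : E').1 = ev y l := fun l =>
    map_ev ((MonoidHom.fst E (Multiplicative (ZMod 2))).comp E₁.subtype) y₁ l
  have pfst : ∀ (a : E₁) (n : ℕ), ((a ^ n : E₁) : E').1 = (a : E').1 ^ n := fun a n =>
    map_pow ((MonoidHom.fst E (Multiplicative (ZMod 2))).comp E₁.subtype) a n
  have psnd : ∀ (a : E₁) (n : ℕ), ((a ^ n : E₁) : E').2 = (a : E').2 ^ n := fun a n =>
    map_pow ((MonoidHom.snd E (Multiplicative (ZMod 2))).comp E₁.subtype) a n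
  have hw : ev y₁ sevenB ^ 9 ≠ 1 := by
    intro h
    have e := congrArg (fun a : E₁ => (a : E').2) h
    simp only [psnd, snd] at e
    exact absurd e (show ¬ (σ ^ sevenB.length) ^ 9 = 1 by decide)
  rcases cube_or hc₁ hy₁ hgen hw with h | h
  · have e : (((ev y₁ spider ^ 10) ^ 3 : E₁) : E').1 = 1 := by rw [h]; rfl
    rwa [pfst, pfst, fst] at e
  · exfalso
    have e := congrArg (fun a : E₁ => (a : E').2) h
    simp only [psnd, snd] at e
    exact absurd e (show ¬ ((σ ^ spider.length) ^ 10) ^ 3 = (σ ^ sevenB.length) ^ 9 by decide)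

end Extension

end Cfsg.Agent.Lib.Fi22Mult
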