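import Mathlib
import Cfsg.Agent.S1696
import Cfsg.Agent.Lib.CosetTable.Base
import Cfsg.Prelude.Def_Spor_Fi22

/-!
Lifts of the generators of the presented group Fi22 to a central extension.

Along the tree the lifts satisfy the braid relations exactly and have one common square; lifts of
commuting generators commute, because `a` commutes with the seven letters `c, ..., i` of a third E7
word whose ninth power is trivial.
-/

set_option autoImplicit false

namespace Cfsg.Agent.Lib.Fi22Mult

open Cfsg
open scoped commutatorElement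

/-- The generators. -/
abbrev Node : Type := Spor.Fi22.Gen

/-- Joined nodes. -/
def adj (x z : Node) : Bool := Spor.coxLabel Spor.Fi22.edges x z == 3

/-- The image of a node in the presented group. -/
def node (x : Node) : Spor.Fi22 := PresentedGroup.of x

theorem mem_nodes (x : Node) : x ∈ Spor.coxNodes Spor.Fi22.edges := by
  cases x <;> decide

theorem label_cases : ∀ x z : Node, x ≠ z →
    (adj x z = true ∧ Spor.coxLabel Spor.Fi22.edges x z = 3) ∨
    (adj x z = false ∧ Spor.coxLabel Spor.Fi22.edges x z = 2) := by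
  intro x z
  cases x <;> cases z <;> decide

theorem node_rel (x z : Node) :
    (node x * node z) ^ Spor.coxLabel Spor.Fi22.edges x z = 1 := by
  have h := PresentedGroup.one_of_mem (rels := Spor.coxRelators Spor.Fi22.edges ∪
    {r | r ∈ Spor.Fi22.extra}) (Or.inl ⟨x, mem_nodes x, z, mem_nodes z, rfl⟩)
  simpa [node, PresentedGroup.of] using h

theorem node_sq (x : Node) : node x * node x = 1 := by
  simpa [Spor.coxLabel] using node_rel x x

theorem node_inv (x : Node) : (node x)⁻¹ = node x := inv_eq_of_mul_eq_one_right (node_sq x)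

theorem node_braid {x z : Node} (h : adj x z = true) :
    node x * node z * node x = node z * node x * node z := by
  have hne : x ≠ z := by rintro rfl; simp [adj, Spor.coxLabel] at h
  rcases label_cases x z hne with ⟨-, hl⟩ | ⟨h', -⟩
  · have h3 := node_rel x z
    rw [hl, pow_succ, pow_two] at h3
    have h4 : node x * node z * node x = (node z * node x * node z)⁻¹ := by
      rw [eq_inv_iff_mul_eq_one]
      simpa [mul_assoc] using h3
    rw [h4]
    simp [mul_inv_rev, node_inv, mul_assoc]
  · rw [h] at h'; cases h'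

theorem node_comm {x z : Node} (h : adj x z = false) : Commute (node x) (node z) := by
  by_cases hne : x = z
  · rw [hne]
  rcases label_cases x z hne with ⟨h', -⟩ | ⟨-, hl⟩
  · rw [h] at h'; cases h'
  · have h2 := node_rel x z
    rw [hl, pow_two] at h2
    show node x * node z = node z * node x
    rw [eq_inv_of_mul_eq_one_left h2, mul_inv_rev, node_inv, node_inv]

/-- The spider word. -/
def spider : List Node := [.d, .c, .b, .d, .e, .f, .d, .h, .i]

/-- The first E7 word. -/
def sevenA : List Node := [.a, .b, .c, .d, .e, .f, .h]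

/-- The second E7 word. -/
def sevenB : List Node := [.b, .c, .d, .e, .f, .g, .h]

/-- The third E7 word. -/
def sevenC : List Node := [.c, .d, .e, .f, .g, .h, .i]

/-- The product along a word. -/
def ev {M : Type*} [Monoid M] (y : Node → M) (l : List Node) : M := (l.map y).prod

theorem extra_eq : Spor.Fi22.extra =
    [ev FreeGroup.of spider ^ 10, ev FreeGroup.of sevenA ^ 9, ev FreeGroup.of sevenB ^ 9] := by
  simp [Spor.Fi22.extra, ev, spider, sevenA, sevenB, mul_assoc]

theorem map_ev {M N : Type*} [Monoid M] [Monoid N] (f : M →* N) (y : Node → M) (l : List Node) :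
    f (ev y l) = ev (fun x => f (y x)) l := by
  simp [ev, map_list_prod, List.map_map, Function.comp_def]

theorem node_extra {l : List Node} {n : ℕ}
    (h : ev FreeGroup.of l ^ n ∈ Spor.Fi22.extra) : ev node l ^ n = 1 := by
  have h' := PresentedGroup.one_of_mem (rels := Spor.coxRelators Spor.Fi22.edges ∪
    {r | r ∈ Spor.Fi22.extra}) (x := ev FreeGroup.of l ^ n) (Or.inr h)
  rwa [map_pow, map_ev] at h'

theorem node_spider : ev node spider ^ 10 = 1 := node_extra (by rw [extra_eq]; simp)

theorem node_sevenA : ev node sevenA ^ 9 = 1 := node_extra (by rw [extra_eq]; simp)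

theorem node_sevenB : ev node sevenB ^ 9 = 1 := node_extra (by rw [extra_eq]; simp)

open Lib.CosetTable in
/-- A word equal to the identity on a base of the action is trivial in Fi22. -/
theorem eval_eq_one_of_base {w : List ℕ} (hl : allL (fun a => Nat.blt a Fi22a.cert.k) w = true)
    (hfix : allL (fun q => Fi22a.tab.fixOK [w] (q.1.get 0)) Fi22Simple.levels = true) :
    eval S1696.gn w = 1 := by
  have D := S1687.certified
  obtain ⟨φ, hφ⟩ := Pres.exists_action D.good D.extra_eq D.k_eq D.rels_eq D.words D.checked
  have M := S1696.model_act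
  have hB := fixOK_of_fix_base Fi22a.checked φ hφ M S1696.order_le Fi22Simple.levels
    Fi22Simple.levels_ok Fi22Simple.levels_card w hl hfix
  have hlt : ∀ a ∈ w, a < Fi22a.cert.k := fun a ha => blt_iff.mp (allL_spec hl a ha)
  have h1 : φ (eval S1696.gn w) = 1 := by
    refine (Checked.map_eval Fi22a.checked M φ hφ hlt).trans ?_
    refine Equiv.ext fun i => Fin.ext ?_
    rw [Fi22a.checked.eval_perm hlt]
    exact beq_iff.mp (allL_spec (hB i i.2) w (by simp))
  haveI : IsSimpleGroup (S1687.pres.Grp Spor.Fi22.extra) := S1696.result.1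
  rcases (IsSimpleGroup.eq_bot_or_eq_top_of_normal φ.ker inferInstance) with hk | hk
  · exact (MonoidHom.ker_eq_bot_iff φ).1 hk (h1.trans (map_one φ).symm)
  · exfalso
    have hmoved : Fi22a.tab.walk [1] 0 ≠ 0 := by decide +kernel
    refine hmoved ?_
    have h7 : ∀ a ∈ [1], a < Fi22a.cert.k := by decide
    have e : eval Fi22a.checked.perm [1] = 1 := by
      refine (Checked.map_eval Fi22a.checked M φ hφ h7).symm.trans ?_
      exact MonoidHom.mem_ker.1 (hk ▸ Subgroup.mem_top _)
    have e' := Fi22a.checked.eval_perm h7 ⟨0, Fi22a.checked.pos⟩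
    rw [e] at e'
    exact e'.symm

theorem gn_eq (n : ℕ) : S1696.gn n = node (S1687.pres.gen n) := rfl

theorem eval_gn : ∀ w : List ℕ,
    Lib.CosetTable.eval S1696.gn w = ev node (w.map S1687.pres.gen).reverse
  | [] => by simp [Lib.CosetTable.eval, ev]
  | a :: w => by simp [Lib.CosetTable.eval, eval_gn w, gn_eq, ev]

/-- The word whose evaluation is the ninth power of the third E7 word. -/
def thirdWord : List ℕ := (List.replicate 9 [8, 7, 6, 5, 4, 3, 2]).flatten

theorem node_sevenC : ev node sevenC ^ 9 = 1 := by
  have h : Lib.CosetTable.eval S1696.gn thirdWord = 1 :=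
    eval_eq_one_of_base (by decide +kernel) (by decide +kernel)
  rw [eval_gn] at h
  rw [← h]
  simp [thirdWord, sevenC, S1687.pres, ev, List.replicate_succ, pow_succ, mul_assoc]

section Extension

variable {E : Type*} [Group E] (π : E →* Spor.Fi22)

/-- Lifts satisfying the braid relations exactly. -/
structure Lifts (y : Node → E) : Prop where
  proj : ∀ x, π (y x) = node x
  braid : ∀ x z, adj x z = true → y x * y z * y x = y z * y x * y z

variable {π}

theorem exists_braid (hs : Function.Surjective π) (hc : π.ker ≤ Subgroup.center E) {x z : Node}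
    (h : adj x z = true) {a : E} (ha : π a = node x) :
    ∃ b, π b = node z ∧ a * b * a = b * a * b := by
  obtain ⟨b₀, hb⟩ := hs (node z)
  set k := a * b₀ * a * (b₀ * a * b₀)⁻¹ with hk
  have hk1 : π k = 1 := by
    simp only [hk, map_mul, map_inv, ha, hb, node_braid h, mul_inv_cancel]
  have hkc := Subgroup.mem_center_iff.1 (hc hk1)
  have h0 : a * b₀ * a = k * (b₀ * a * b₀) := by rw [hk, inv_mul_cancel_right]
  refine ⟨k * b₀, by rw [map_mul, hk1, hb, one_mul], ?_⟩
  calc a * (k * b₀) * a = k * (a * b₀ * a) := by
        rw [← mul_assoc a, hkc a]; simp [mul_assoc]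
    _ = k * (k * (b₀ * a * b₀)) := by rw [h0]
    _ = k * b₀ * (k * (a * b₀)) := by
        rw [← mul_assoc (k * b₀) k, mul_assoc k b₀ k, hkc b₀]; simp [mul_assoc]
    _ = k * b₀ * a * (k * b₀) := by
        rw [← mul_assoc k a, ← hkc a]; simp [mul_assoc]

theorem exists_lifts (hs : Function.Surjective π) (hc : π.ker ≤ Subgroup.center E) :
    ∃ y : Node → E, Lifts π y := by
  obtain ⟨yd, hd⟩ := hs (node .d)
  obtain ⟨yc, hc', bc⟩ := exists_braid hs hc (x := .d) (z := .c) rfl hd
  obtain ⟨yb, hb', bb⟩ := exists_braid hs hc (x := .c) (z := .b) rfl hc'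
  obtain ⟨ya, ha', ba⟩ := exists_braid hs hc (x := .b) (z := .a) rfl hb'
  obtain ⟨ye, he', be⟩ := exists_braid hs hc (x := .d) (z := .e) rfl hd
  obtain ⟨yf, hf', bf⟩ := exists_braid hs hc (x := .e) (z := .f) rfl he'
  obtain ⟨yg, hg', bg⟩ := exists_braid hs hc (x := .f) (z := .g) rfl hf'
  obtain ⟨yh, hh', bh⟩ := exists_braid hs hc (x := .d) (z := .h) rfl hd
  obtain ⟨yi, hi', bi⟩ := exists_braid hs hc (x := .h) (z := .i) rfl hh'
  refine ⟨fun
    | .a => ya | .b => yb | .c => yc | .d => yd | .e => ye | .f => yf | .g => yg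
    | .h => yh | .i => yi, ⟨fun x => by cases x <;> assumption, fun x z hxz => ?_⟩⟩
  cases x <;> cases z <;>
    first
      | exact absurd hxz (by decide)
      | assumption
      | (symm; assumption)

variable {y : Node → E}

theorem ev_proj (hy : Lifts π y) (l : List Node) : π (ev y l) = ev node l := by
  rw [map_ev]
  exact congrArg (fun q => ev q l) (funext hy.proj)

theorem central (hc : π.ker ≤ Subgroup.center E) {k : E} (hk : π k = 1) (g : E) :
    Commute k g :=
  (Subgroup.mem_center_iff.1 (hc hk) g).symm

theorem Lifts.sq_ker (hy : Lifts π y) (x : Node) : π (y x * y x) = 1 := by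
  rw [map_mul, hy.proj, node_sq]

theorem Lifts.sq_eq (hy : Lifts π y) (hc : π.ker ≤ Subgroup.center E) (x : Node) :
    y x * y x = y .d * y .d := by
  have key : ∀ x z, adj x z = true → y z * y z = y x * y x := by
    intro x z h
    have e : (y x * y z) * y x * (y x * y z)⁻¹ = y z := by
      rw [mul_inv_eq_iff_eq_mul, hy.braid x z h, mul_assoc]
    calc y z * y z = ((y x * y z) * y x * (y x * y z)⁻¹) * ((y x * y z) * y x * (y x * y z)⁻¹) := by
          rw [e]
      _ = (y x * y z) * (y x * y x) * (y x * y z)⁻¹ := by group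
      _ = y x * y x := by
          rw [← (central hc (hy.sq_ker x) (y x * y z)).eq, mul_inv_cancel_right]
  have hcd := key .d .c rfl
  have hbd := (key .c .b rfl).trans hcd
  have had := (key .b .a rfl).trans hbd
  have hed := key .d .e rfl
  have hfd := (key .e .f rfl).trans hed
  have hgd := (key .f .g rfl).trans hfd
  have hhd := key .d .h rfl
  have hid := (key .h .i rfl).trans hhd
  cases x <;> first | rfl | assumption

/-- The commutator of two lifts. -/
def sgn (y : Node → E) (x z : Node) : E := ⁅y x, y z⁆

theorem sgn_ker (hy : Lifts π y) {x z : Node} (h : adj x z = false) : π (sgn y x z) = 1 := by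
  rw [sgn, map_commutatorElement, hy.proj, hy.proj, commutatorElement_eq_one_iff_mul_comm]
  exact node_comm h

theorem sgn_mul (y : Node → E) (x z : Node) : y x * y z = sgn y x z * (y z * y x) := by
  simp [sgn, commutatorElement_def, mul_assoc]

theorem commutator_central_mul {c : E} (hcc : ∀ g, Commute c g) (a b : E) :
    ⁅c * a, b⁆ = ⁅a, b⁆ := by
  simp only [commutatorElement_def]
  calc c * a * b * (c * a)⁻¹ * b⁻¹ = c * (a * b * a⁻¹) * c⁻¹ * b⁻¹ := by group
    _ = a * b * a⁻¹ * b⁻¹ := by rw [(hcc (a * b * a⁻¹)).eq, mul_inv_cancel_right]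

theorem sgn_move (hy : Lifts π y) (hc : π.ker ≤ Subgroup.center E) {x z w : Node}
    (h : adj z w = true) (hxz : adj x z = false) (hxw : adj x w = false) :
    sgn y x z = sgn y x w := by
  set g := y z * y w with hg
  have e1 : MulAut.conj g (y z) = y w := by
    rw [MulAut.conj_apply, hg, mul_inv_eq_iff_eq_mul, hy.braid z w h, mul_assoc]
  set c := MulAut.conj g (y x) * (y x)⁻¹ with hcdef
  have hc1 : π c = 1 := by
    rw [hcdef, map_mul, MulAut.conj_apply, hg]
    simp only [map_mul, map_inv, hy.proj]
    rw [show node z * node w * node x = node x * (node z * node w) by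
      rw [mul_assoc, ← (node_comm hxw).eq, ← mul_assoc, ← (node_comm hxz).eq, mul_assoc]]
    group
  have e2 : MulAut.conj g (y x) = c * y x := by simp [hcdef]
  have e3 : MulAut.conj g (sgn y x z) = sgn y x z := by
    rw [MulAut.conj_apply, (central hc (sgn_ker hy hxz) g).symm.eq, mul_inv_cancel_right]
  rw [← e3, sgn, map_commutatorElement, e1, e2, sgn]
  exact commutator_central_mul (central hc hc1) _ _

theorem sgn_sq (hy : Lifts π y) (hc : π.ker ≤ Subgroup.center E) {x z : Node}
    (h : adj x z = false) : sgn y x z * sgn y x z = 1 := by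
  have hk := central hc (sgn_ker hy h)
  have h1 : y x * (y x * y z) = sgn y x z * sgn y x z * (y z * (y x * y x)) := by
    calc y x * (y x * y z) = y x * (sgn y x z * (y z * y x)) := by rw [← sgn_mul y x z]
      _ = sgn y x z * (y x * (y z * y x)) := by rw [← mul_assoc, ← (hk (y x)).eq, mul_assoc]
      _ = sgn y x z * (y x * y z * y x) := by rw [mul_assoc]
      _ = sgn y x z * (sgn y x z * (y z * y x) * y x) := by rw [← sgn_mul y x z]
      _ = _ := by simp [mul_assoc]
  have h2 : y x * (y x * y z) = y z * (y x * y x) := by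
    rw [← mul_assoc]; exact (central hc (hy.sq_ker x) (y z)).eq
  exact mul_eq_right.1 (h1.symm.trans h2)

theorem sgn_a_c (hy : Lifts π y) (hc : π.ker ≤ Subgroup.center E) : sgn y .a .c = 1 := by
  set e := sgn y .a .c with he
  have he1 : π e = 1 := sgn_ker hy rfl
  have hce := central hc he1
  have hd : sgn y .a .d = e := (sgn_move hy hc (x := .a) (z := .c) (w := .d) rfl rfl rfl).symm
  have he' : sgn y .a .e = e := (sgn_move hy hc (x := .a) (z := .d) (w := .e) rfl rfl rfl).symm.trans hd
  have hf : sgn y .a .f = e := (sgn_move hy hc (x := .a) (z := .e) (w := .f) rfl rfl rfl).symm.trans he'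
  have hg : sgn y .a .g = e := (sgn_move hy hc (x := .a) (z := .f) (w := .g) rfl rfl rfl).symm.trans hf
  have hh : sgn y .a .h = e := (sgn_move hy hc (x := .a) (z := .d) (w := .h) rfl rfl rfl).symm.trans hd
  have hi : sgn y .a .i = e := (sgn_move hy hc (x := .a) (z := .h) (w := .i) rfl rfl rfl).symm.trans hh
  have step : ∀ x, sgn y .a x = e → MulAut.conj (y .a) (y x) = e * y x := fun x hx => by
    rw [← hx, MulAut.conj_apply, sgn_mul y .a x, mul_assoc, mul_assoc, mul_inv_cancel, mul_one]
  have hall : ∀ (l : List Node), (∀ x ∈ l, sgn y .a x = e) →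
      MulAut.conj (y .a) (ev y l) = e ^ l.length * ev y l := by
    intro l
    induction l with
    | nil => intro _; simp [ev]
    | cons x l ih =>
      intro h
      rw [show ev y (x :: l) = y x * ev y l by simp [ev], map_mul, step x (h x (by simp)),
        ih fun z hz => h z (by simp [hz]), List.length_cons, pow_succ', mul_assoc e,
        ← mul_assoc (y x), ← ((hce (y x)).pow_left _).eq]
      simp [mul_assoc]
  have h7 := hall sevenC (by
    intro x hx
    simp only [sevenC, List.mem_cons, List.not_mem_nil, or_false] at hx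
    rcases hx with rfl | rfl | rfl | rfl | rfl | rfl | rfl <;> first | rfl | assumption)
  have hv : π (ev y sevenC ^ 9) = 1 := by rw [map_pow, ev_proj hy, node_sevenC]
  have h9 : MulAut.conj (y .a) (ev y sevenC ^ 9) = ev y sevenC ^ 9 := by
    rw [MulAut.conj_apply, (central hc hv (y .a)).symm.eq, mul_inv_cancel_right]
  rw [map_pow, h7, ((hce _).pow_left _).mul_pow] at h9
  have h63 : e ^ 63 = 1 := by
    rw [← pow_mul] at h9
    simpa [sevenC] using h9
  have h2 : e ^ 2 = 1 := by rw [pow_two]; exact sgn_sq hy hc rfl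
  rw [show (63 : ℕ) = 2 * 31 + 1 from rfl, pow_succ, pow_mul, h2, one_pow, one_mul] at h63
  exact h63

theorem commute_lifts (hy : Lifts π y) (hc : π.ker ≤ Subgroup.center E) {x z : Node}
    (h : adj x z = false) : Commute (y x) (y z) := by
  suffices H : sgn y x z = 1 by
    exact (commutatorElement_eq_one_iff_mul_comm).1 H
  have symm : ∀ {x z}, sgn y x z = 1 → sgn y z x = 1 := fun {x z} h => by
    rw [sgn, ← commutatorElement_inv]; exact inv_eq_one.2 h
  have mv : ∀ (x z w : Node), adj z w = true → adj x z = false → adj x w = false →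
      sgn y x z = 1 → sgn y x w = 1 := fun x z w h1 h2 h3 h4 => (sgn_move hy hc h1 h2 h3).symm.trans h4
  have ac : sgn y .a .c = 1 := sgn_a_c hy hc
  have ad := mv .a .c .d rfl rfl rfl ac
  have ae := mv .a .d .e rfl rfl rfl ad
  have af := mv .a .e .f rfl rfl rfl ae
  have ag := mv .a .f .g rfl rfl rfl af
  have ah := mv .a .d .h rfl rfl rfl ad
  have ai := mv .a .h .i rfl rfl rfl ah
  have ia := symm ai
  have ib := mv .i .a .b rfl rfl rfl ia
  have ic := mv .i .b .c rfl rfl rfl ib
  have id' := mv .i .c .d rfl rfl rfl ic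
  have ie := mv .i .d .e rfl rfl rfl id'
  have if' := mv .i .e .f rfl rfl rfl ie
  have ig := mv .i .f .g rfl rfl rfl if'
  have ga := symm ag
  have gb := mv .g .a .b rfl rfl rfl ga
  have gc := mv .g .b .c rfl rfl rfl gb
  have gd := mv .g .c .d rfl rfl rfl gc
  have ge := mv .g .d .e rfl rfl rfl gd
  have gh := mv .g .d .h rfl rfl rfl gd
  have bg := symm gb
  have bf := mv .b .g .f rfl rfl rfl bg
  have be := mv .b .f .e rfl rfl rfl bf
  have bd := mv .b .e .d rfl rfl rfl be
  have bh := mv .b .d .h rfl rfl rfl bd
  have cg := symm gc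
  have cf := mv .c .g .f rfl rfl rfl cg
  have ce := mv .c .f .e rfl rfl rfl cf
  have ci := symm ic
  have ch := mv .c .i .h rfl rfl rfl ci
  have dg := symm gd
  have df := mv .d .g .f rfl rfl rfl dg
  have ei := symm ie
  have eh := mv .e .i .h rfl rfl rfl ei
  have fi := symm if'
  have fh := mv .f .i .h rfl rfl rfl fi
  have refl' : ∀ x, sgn y x x = 1 := fun x => by simp [sgn]
  cases x <;> cases z <;>
    first
      | exact absurd h (by decide)
      | exact refl' _
      | assumption
      | (apply symm; assumption)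

end Extension

end Cfsg.Agent.Lib.Fi22Mult
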