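import Cfsg.Agent.Lib.Fi22Mult.Lifts

/-!
Involutory lifts: the central ninth powers of the two E7 words square to one, and a central shift of
the lifts kills the first of them.
-/

set_option autoImplicit false

namespace Cfsg.Agent.Lib.Fi22Mult

open Cfsg
open scoped commutatorElement

/-- A rotation, or an exchange of the letters in places `i`, `i + 1`. -/
inductive Move
  | rot
  | swap (i : ℕ)

/-- Exchange of two commuting neighbours. -/
def swapAt : ℕ → List Node → Option (List Node)
  | 0, x :: z :: l => bif adj x z then none else some (z :: x :: l)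
  | i + 1, x :: l => (swapAt i l).map (x :: ·)
  | _, _ => none

/-- One move. -/
def moveOne : Move → List Node → Option (List Node)
  | .rot, x :: l => some (l ++ [x])
  | .rot, [] => none
  | .swap i, l => swapAt i l

/-- A list of moves. -/
def moveAll : List Move → List Node → Option (List Node)
  | [], l => some l
  | m :: ms, l => (moveOne m l).bind (moveAll ms)

section Moves

variable {M : Type*} [Group M] (y : Node → M) (hcomm : ∀ x z, adj x z = false → Commute (y x) (y z))
include hcomm

theorem ev_swapAt : ∀ (i : ℕ) (l l' : List Node), swapAt i l = some l' → ev y l' = ev y l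
  | 0, [], l', h => by simp [swapAt] at h
  | 0, [x], l', h => by simp [swapAt] at h
  | 0, x :: z :: l, l', h => by
    cases ha : adj x z
    · simp only [swapAt, ha, cond_false, Option.some.injEq] at h
      subst h
      simp only [ev, List.map_cons, List.prod_cons, ← mul_assoc, (hcomm x z ha).eq]
    · simp [swapAt, ha] at h
  | i + 1, [], l', h => by simp [swapAt] at h
  | i + 1, x :: l, l', h => by
    simp only [swapAt, Option.map_eq_some_iff] at h
    obtain ⟨m, hm, rfl⟩ := h
    simp only [ev, List.map_cons, List.prod_cons]
    exact congrArg (y x * ·) (ev_swapAt i l m hm)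

theorem isConj_moveOne {m : Move} {l l' : List Node} (h : moveOne m l = some l') :
    IsConj (ev y l) (ev y l') := by
  match m, l, h with
  | .rot, x :: l, h =>
    simp only [moveOne, Option.some.injEq] at h
    subst h
    refine isConj_iff.2 ⟨(y x)⁻¹, ?_⟩
    simp [ev, List.map_append, mul_assoc]
  | .rot, [], h => simp [moveOne] at h
  | .swap i, l, h => rw [ev_swapAt y hcomm i l l' h]

theorem isConj_moveAll : ∀ (ms : List Move) (l l' : List Node), moveAll ms l = some l' →
    IsConj (ev y l) (ev y l')
  | [], l, l', h => by
    simp only [moveAll, Option.some.injEq] at h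
    rw [h]
  | m :: ms, l, l', h => by
    simp only [moveAll, Option.bind_eq_some_iff] at h
    obtain ⟨k, hk, hk'⟩ := h
    exact (isConj_moveOne y hcomm hk).trans (isConj_moveAll ms k l' hk')

end Moves

/-- Moves carrying the first E7 word to its reverse. -/
def movesA : List Move :=
  [.rot, .rot, .rot, .rot, .rot, .swap 0, .rot, .swap 0, .rot, .swap 0, .rot, .swap 0, .rot,
   .swap 0, .rot, .swap 1, .swap 0, .swap 2, .swap 1, .swap 0, .rot, .swap 2, .swap 1, .swap 0,
   .rot, .swap 2, .swap 1, .swap 0, .rot, .swap 3, .swap 2, .swap 1, .swap 0, .rot, .swap 3,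
   .swap 2, .swap 1, .swap 0, .rot, .swap 4, .swap 3, .swap 2, .swap 1, .swap 0, .rot]

/-- Moves carrying the second E7 word to its reverse. -/
def movesB : List Move :=
  [.rot, .rot, .rot, .rot, .rot, .swap 0, .rot, .swap 0, .rot, .swap 0, .rot, .swap 0, .rot,
   .swap 0, .rot, .swap 1, .swap 0, .rot, .swap 1, .swap 0, .rot, .swap 1, .swap 0, .rot, .swap 1,
   .swap 0, .rot, .swap 2, .swap 1, .swap 0, .swap 3, .swap 2, .swap 1, .swap 0, .rot, .swap 3,
   .swap 2, .swap 1, .swap 0, .rot, .swap 4, .swap 3, .swap 2, .swap 1, .swap 0, .rot]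

theorem movesA_ok : moveAll movesA sevenA = some sevenA.reverse := by decide +kernel

theorem movesB_ok : moveAll movesB sevenB = some sevenB.reverse := by decide +kernel

/-- Involutory lifts with all the Coxeter relations. -/
structure Good {E : Type*} [Group E] (π : E →* Spor.Fi22) (y : Node → E) : Prop
    extends Lifts π y where
  sq : ∀ x, y x * y x = 1
  comm : ∀ x z, adj x z = false → Commute (y x) (y z)

theorem ev_reverse {E : Type*} [Group E] {y : Node → E} {s : E} (hs : ∀ g, Commute s g)
    (hsq : ∀ x, y x * y x = s) : ∀ l : List Node, ev y l.reverse * ev y l = s ^ l.length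
  | [] => by simp [ev]
  | x :: l => by
    have ih := ev_reverse hs hsq l
    have e1 : ev y (x :: l).reverse = ev y l.reverse * y x := by simp [ev]
    have e2 : ev y (x :: l) = y x * ev y l := by simp [ev]
    rw [e1, e2, List.length_cons, pow_succ', ← ih]
    calc ev y l.reverse * y x * (y x * ev y l) = ev y l.reverse * (y x * y x) * ev y l := by
          simp only [mul_assoc]
      _ = s * (ev y l.reverse * ev y l) := by rw [hsq, ← (hs _).eq, mul_assoc]

section Extension

variable {E : Type*} [Group E] {π : E →* Spor.Fi22} {y : Node → E}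

theorem seven_sq (hy : Good π y) (hc : π.ker ≤ Subgroup.center E) {l : List Node} {ms : List Move}
    (hms : moveAll ms l = some l.reverse) (hl : ev node l ^ 9 = 1) :
    ev y l ^ 9 * ev y l ^ 9 = 1 := by
  have hv : π (ev y l ^ 9) = 1 := by rw [map_pow, ev_proj hy.toLifts, hl]
  have hconj := isConj_moveAll y (fun x z h => hy.comm x z h) ms l _ hms
  obtain ⟨g, hg⟩ := isConj_iff.1 hconj
  have hr : ev y l.reverse ^ 9 = ev y l ^ 9 := by
    rw [← hg, conj_pow, (central hc hv g).symm.eq, mul_inv_cancel_right]
  have h7 := ev_reverse (s := (1 : E)) (fun g => Commute.one_left g) hy.sq l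
  rw [one_pow] at h7
  rw [eq_inv_of_mul_eq_one_left h7, inv_pow] at hr
  exact inv_eq_iff_mul_eq_one.1 hr

theorem lift_node (f : Node → E) (hsq : ∀ x, f x * f x = 1)
    (hb : ∀ x z, adj x z = true → f x * f z * f x = f z * f x * f z)
    (hcm : ∀ x z, adj x z = false → Commute (f x) (f z))
    (h10 : ev f spider ^ 10 = 1) (hA : ev f sevenA ^ 9 = 1) (hB : ev f sevenB ^ 9 = 1) :
    ∃ φ : Spor.Fi22 →* E, ∀ x, φ (node x) = f x := by
  have hinv : ∀ x, (f x)⁻¹ = f x := fun x => inv_eq_of_mul_eq_one_right (hsq x)
  have hrel : ∀ r ∈ Spor.coxRelators Spor.Fi22.edges ∪ {r | r ∈ Spor.Fi22.extra},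
      FreeGroup.lift f r = 1 := by
    rintro r (⟨x, -, z, -, rfl⟩ | hm)
    · simp only [map_pow, map_mul, FreeGroup.lift_apply_of]
      by_cases hne : x = z
      · subst hne
        simp [Spor.coxLabel, hsq]
      rcases label_cases x z hne with ⟨ha, hl⟩ | ⟨ha, hl⟩
      · rw [hl]
        calc (f x * f z) ^ 3 = (f x * f z * f x) * (f z * f x * f z) := by
              simp only [pow_succ, pow_zero, one_mul, mul_assoc]
          _ = 1 := by
              rw [← hb x z ha, show f x * f z * f x * (f x * f z * f x) =
                f x * f z * (f x * f x) * f z * f x by simp only [mul_assoc], hsq, mul_one,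
                show f x * f z * f z * f x = f x * (f z * f z) * f x by simp only [mul_assoc],
                hsq, mul_one, hsq]
      · rw [hl, pow_two]
        calc f x * f z * (f x * f z) = f x * (f z * f x) * f z := by simp only [mul_assoc]
          _ = 1 := by
              rw [← (hcm x z ha).eq, show f x * (f x * f z) * f z = f x * f x * (f z * f z) by
                simp only [mul_assoc], hsq, hsq, mul_one]
    · simp only [Set.mem_setOf_eq, extra_eq, List.mem_cons, List.not_mem_nil, or_false] at hm
      rcases hm with rfl | rfl | rfl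
      · simpa [map_pow, map_ev] using h10
      · simpa [map_pow, map_ev] using hA
      · simpa [map_pow, map_ev] using hB
  exact ⟨PresentedGroup.toGroup hrel, fun x => PresentedGroup.toGroup.of hrel⟩

theorem central_triple {k : E} (hk : ∀ g, Commute k g) (a b c : E) :
    a * k * (b * k) * (c * k) = a * b * c * (k * k * k) := by
  calc a * k * (b * k) * (c * k) = a * (k * b) * (k * c) * k := by simp only [mul_assoc]
    _ = a * (b * k) * (c * k) * k := by rw [(hk b).eq, (hk c).eq]
    _ = a * b * (k * c) * (k * k) := by simp only [mul_assoc]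
    _ = a * b * (c * k) * (k * k) := by rw [(hk c).eq]
    _ = a * b * c * (k * k * k) := by simp only [mul_assoc]

theorem ev_shift {f : Node → E} {v : E} (hv : ∀ g, Commute v g) (hf : ∀ x, f x = y x * v) :
    ∀ l : List Node, ev f l = ev y l * v ^ l.length
  | [] => by simp [ev]
  | x :: l => by
    have ih := ev_shift hv hf l
    have e1 : ev f (x :: l) = f x * ev f l := by simp [ev]
    have e2 : ev y (x :: l) = y x * ev y l := by simp [ev]
    rw [e1, e2, ih, hf, List.length_cons, pow_succ']
    simp only [mul_assoc]
    rw [← mul_assoc v (ev y l), (hv (ev y l)).eq]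
    simp only [mul_assoc]

end Extension

end Cfsg.Agent.Lib.Fi22Mult
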