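import Cfsg.Agent.Lib.Fi22Mult.Reduce
import Cfsg.Agent.Lib.Fi22Mult.BitLinear
import Cfsg.Agent.Lib.Fi22Mult.TripleData
import Cfsg.Prelude.Def_KGroupFacts

/-!
A triple cover of Fi22.

Nine bit matrices satisfy the relations of the presentation except that the spider power is a central
element of order three.
-/

set_option autoImplicit false
set_option maxRecDepth 20000

namespace Cfsg.Agent.Lib.Fi22Mult

open Cfsg
open scoped commutatorElement

/-- All nodes. -/
def nodes : List Node := [.a, .b, .c, .d, .e, .f, .g, .h, .i]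

theorem nodes_all (x : Node) : x ∈ nodes := by cases x <;> decide

/-- The map of a node on bit vectors. -/
def nodeApp (x : Node) : ℕ → ℕ := bitApp (tripleRows x)

/-- The map of a word, rightmost letter first. -/
def wordApp : List Node → ℕ → ℕ
  | [], v => v
  | x :: l, v => nodeApp x (wordApp l v)

theorem nodeApp_additive (x : Node) : BitAdditive (nodeApp x) := bitApp_xor _

theorem wordApp_additive : ∀ l, BitAdditive (wordApp l)
  | [] => fun _ _ => rfl
  | x :: l => (nodeApp_additive x).comp (wordApp_additive l)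

/-- The rows are short. -/
def rowsCheck : Bool :=
  nodes.all (fun x => (tripleRows x).all fun r => decide (r < 2 ^ 54)) &&
    scalarRows.all fun r => decide (r < 2 ^ 54)

/-- Involutions with the relations of the graph. -/
def coxCheck : Bool :=
  nodes.all fun x => nodes.all fun z =>
    let ws : List Node × List Node :=
      bif x == z then ([x, x], []) else bif adj x z then ([x, z, x], [z, x, z]) else ([x, z], [z, x])
    (List.range 54).all fun i => wordApp ws.1 (2 ^ i) == wordApp ws.2 (2 ^ i)

/-- The two E7 relations and the value of the spider power. -/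
def extraCheck : Bool :=
  (List.range 54).all fun i =>
    wordApp (List.replicate 9 sevenA).flatten (2 ^ i) == 2 ^ i &&
      wordApp (List.replicate 9 sevenB).flatten (2 ^ i) == 2 ^ i &&
      wordApp (List.replicate 10 spider).flatten (2 ^ i) == bitApp scalarRows (2 ^ i)

/-- The scalar commutes with the nodes and has order three; two nodes differ. -/
def scalarCheck : Bool :=
  ((List.range 54).all fun i =>
    (nodes.all fun x => nodeApp x (bitApp scalarRows (2 ^ i)) == bitApp scalarRows (nodeApp x (2 ^ i))) &&
      bitApp scalarRows (bitApp scalarRows (bitApp scalarRows (2 ^ i))) == 2 ^ i) &&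
    !(bitApp scalarRows 1 == 1) &&
    (List.range 54).any fun i => !(nodeApp .a (2 ^ i) == nodeApp .b (2 ^ i))

theorem rowsCheck_ok : rowsCheck = true := by decide +kernel

theorem coxCheck_ok : coxCheck = true := by decide +kernel

theorem extraCheck_ok : extraCheck = true := by decide +kernel

theorem scalarCheck_ok : scalarCheck = true := by decide +kernel

theorem nodeApp_lt (x : Node) (v : ℕ) : nodeApp x v < 2 ^ 54 := by
  have h := rowsCheck_ok
  simp only [rowsCheck, Bool.and_eq_true, List.all_eq_true, decide_eq_true_eq] at h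
  exact bitApp_lt _ (h.1 x (nodes_all x)) v

theorem scalarApp_lt (v : ℕ) : bitApp scalarRows v < 2 ^ 54 := by
  have h := rowsCheck_ok
  simp only [rowsCheck, Bool.and_eq_true, List.all_eq_true, decide_eq_true_eq] at h
  exact bitApp_lt _ h.2 v

theorem cox_eq (x z : Node) (v : ℕ) (hv : v < 2 ^ 54) :
    (x = z → nodeApp x (nodeApp x v) = v) ∧
    (adj x z = true → wordApp [x, z, x] v = wordApp [z, x, z] v) ∧
    (x ≠ z → adj x z = false → wordApp [x, z] v = wordApp [z, x] v) := by
  have h := coxCheck_ok
  simp only [coxCheck, List.all_eq_true, List.mem_range, beq_iff_eq] at h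
  have h := h x (nodes_all x) z (nodes_all z)
  refine ⟨fun e => ?_, fun e => ?_, fun e e' => ?_⟩
  · subst e
    simp only [beq_self_eq_true, cond_true] at h
    exact (wordApp_additive [x, x]).eq_of_basis (wordApp_additive []) h v hv
  · have hne : (x == z) = false := by
      simp only [beq_eq_false_iff_ne]
      rintro rfl
      simp [adj, Spor.coxLabel] at e
    simp only [hne, e, cond_true, cond_false] at h
    exact (wordApp_additive _).eq_of_basis (wordApp_additive _) h v hv
  · have hne : (x == z) = false := by simpa using e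
    simp only [hne, e', cond_false] at h
    exact (wordApp_additive _).eq_of_basis (wordApp_additive _) h v hv

/-- Bit vectors of length 54. -/
abbrev Vec : Type := {v : ℕ // v < 2 ^ 54}

instance : Finite Vec := Finite.of_equiv _ (Fin.equivSubtype (n := 2 ^ 54))

/-- The permutation of a node. -/
def nodePerm (x : Node) : Equiv.Perm Vec where
  toFun v := ⟨nodeApp x v.1, nodeApp_lt x _⟩
  invFun v := ⟨nodeApp x v.1, nodeApp_lt x _⟩
  left_inv v := Subtype.ext ((cox_eq x x v.1 v.2).1 rfl)
  right_inv v := Subtype.ext ((cox_eq x x v.1 v.2).1 rfl)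

theorem scalar_cube (v : ℕ) (hv : v < 2 ^ 54) :
    bitApp scalarRows (bitApp scalarRows (bitApp scalarRows v)) = v := by
  have h := scalarCheck_ok
  simp only [scalarCheck, Bool.and_eq_true, List.all_eq_true, List.mem_range, beq_iff_eq] at h
  have hs : BitAdditive (bitApp scalarRows) := bitApp_xor _
  exact (hs.comp (hs.comp hs)).eq_of_basis (g := fun v => v) (fun _ _ => rfl)
    (fun i hi => (h.1.1 i hi).2) v hv

/-- The permutation of the scalar. -/
def scalarPerm : Equiv.Perm Vec where
  toFun v := ⟨bitApp scalarRows v.1, scalarApp_lt _⟩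
  invFun v := ⟨bitApp scalarRows (bitApp scalarRows v.1), scalarApp_lt _⟩
  left_inv v := Subtype.ext (scalar_cube v.1 v.2)
  right_inv v := Subtype.ext (scalar_cube v.1 v.2)

theorem ev_nodePerm : ∀ (l : List Node) (v : Vec), ((ev nodePerm l v : Vec) : ℕ) = wordApp l v.1
  | [], v => rfl
  | x :: l, v => by
    rw [show ev nodePerm (x :: l) = nodePerm x * ev nodePerm l by simp [ev], wordApp,
      ← ev_nodePerm l v]
    rfl

theorem ev_pow {M : Type*} [Monoid M] (y : Node → M) (l : List Node) : ∀ n : ℕ,
    ev y (List.replicate n l).flatten = ev y l ^ n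
  | 0 => by simp [ev]
  | n + 1 => by
    rw [pow_succ', ← ev_pow y l n]
    simp [ev, List.replicate_succ]

theorem nodePerm_sq (x : Node) : nodePerm x * nodePerm x = 1 :=
  Equiv.ext fun v => Subtype.ext ((cox_eq x x v.1 v.2).1 rfl)

theorem nodePerm_braid (x z : Node) (h : adj x z = true) :
    nodePerm x * nodePerm z * nodePerm x = nodePerm z * nodePerm x * nodePerm z :=
  Equiv.ext fun v => Subtype.ext ((cox_eq x z v.1 v.2).2.1 h)

theorem nodePerm_comm (x z : Node) (h : adj x z = false) : Commute (nodePerm x) (nodePerm z) := by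
  by_cases hne : x = z
  · rw [hne]
  · exact Equiv.ext fun v => Subtype.ext ((cox_eq x z v.1 v.2).2.2 hne h)

theorem extra_perm : ev nodePerm sevenA ^ 9 = 1 ∧ ev nodePerm sevenB ^ 9 = 1 ∧
    ev nodePerm spider ^ 10 = scalarPerm := by
  have h := extraCheck_ok
  simp only [extraCheck, Bool.and_eq_true, List.all_eq_true, List.mem_range, beq_iff_eq] at h
  simp only [← ev_pow]
  refine ⟨?_, ?_, ?_⟩ <;> refine Equiv.ext fun v => Subtype.ext ?_ <;> rw [ev_nodePerm]
  · exact (wordApp_additive _).eq_of_basis (g := fun v => v) (fun _ _ => rfl)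
      (fun i hi => (h i hi).1.1) v.1 v.2
  · exact (wordApp_additive _).eq_of_basis (g := fun v => v) (fun _ _ => rfl)
      (fun i hi => (h i hi).1.2) v.1 v.2
  · exact (wordApp_additive _).eq_of_basis (g := bitApp scalarRows) (bitApp_xor _)
      (fun i hi => (h i hi).2) v.1 v.2

theorem scalar_facts : scalarPerm ^ 3 = 1 ∧ scalarPerm ≠ 1 ∧
    (∀ x, Commute scalarPerm (nodePerm x)) ∧ nodePerm .a ≠ nodePerm .b := by
  have h := scalarCheck_ok
  simp only [scalarCheck, Bool.and_eq_true, List.all_eq_true, List.mem_range, beq_iff_eq,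
    Bool.not_eq_true', beq_eq_false_iff_ne, List.any_eq_true] at h
  obtain ⟨⟨h1, h2⟩, i, hi, h3⟩ := h
  refine ⟨Equiv.ext fun v => Subtype.ext ?_, fun e => h2 ?_, fun x => ?_, fun e => h3 ?_⟩
  · rw [show scalarPerm ^ 3 = scalarPerm * (scalarPerm * scalarPerm) from pow_three _]
    exact scalar_cube v.1 v.2
  · exact congrArg (fun p : Equiv.Perm Vec => ((p ⟨1, by norm_num⟩ : Vec) : ℕ)) e
  · refine Equiv.ext fun v => Subtype.ext ?_
    have hs : BitAdditive (bitApp scalarRows) := bitApp_xor _
    exact (((nodeApp_additive x).comp hs).eq_of_basis (hs.comp (nodeApp_additive x))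
      (fun j hj => (h1 j hj).1 x (nodes_all x)) v.1 v.2).symm
  · exact congrArg (fun p : Equiv.Perm Vec =>
      ((p ⟨2 ^ i, Nat.pow_lt_pow_right (by norm_num) hi⟩ : Vec) : ℕ)) e

/-- A stem extension of Fi22 with kernel of order three. -/
theorem exists_triple_cover : ∃ (X : Type) (_ : Group X) (_ : Finite X) (σ : X →* Spor.Fi22),
    IsStemExtension σ ∧ Nat.card σ.ker = 3 := by
  haveI : IsSimpleGroup Spor.Fi22 := S1696.result.1
  obtain ⟨hA, hB, hS⟩ := extra_perm
  obtain ⟨hs3, hs1, hscomm, hab⟩ := scalar_facts
  let X : Subgroup (Equiv.Perm Vec) := Subgroup.closure (Set.range nodePerm)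
  let g : Node → X := fun x => ⟨nodePerm x, Subgroup.subset_closure ⟨x, rfl⟩⟩
  have hev : ∀ l, ((ev g l : X) : Equiv.Perm Vec) = ev nodePerm l := fun l => map_ev X.subtype g l
  let t : X := ev g spider ^ 10
  have ht : (t : Equiv.Perm Vec) = scalarPerm := by
    rw [Subgroup.coe_pow, hev, hS]
  have hgen : Subgroup.closure (Set.range g) = ⊤ := by
    refine Subgroup.map_injective X.subtype_injective ?_
    rw [MonoidHom.map_closure, ← MonoidHom.range_eq_map, Subgroup.range_subtype]
    show Subgroup.closure _ = Subgroup.closure _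
    congr 1
    rw [← Set.range_comp]
    rfl
  have htc : ∀ a : X, Commute t a := by
    intro a
    have h : Subgroup.closure (Set.range g) ≤ Subgroup.centralizer {t} := by
      refine (Subgroup.closure_le _).2 ?_
      rintro _ ⟨x, rfl⟩
      refine Subgroup.mem_centralizer_singleton_iff.2 (Subtype.ext ?_)
      rw [Subgroup.coe_mul, Subgroup.coe_mul, ht]
      exact (hscomm x).eq.symm
    rw [hgen] at h
    exact (Subgroup.mem_centralizer_singleton_iff.1 (h (Subgroup.mem_top a))).symm
  set N := Subgroup.zpowers t with hN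
  haveI : N.Normal := ⟨fun m hm a => by
    obtain ⟨j, rfl⟩ := Subgroup.mem_zpowers_iff.1 hm
    rw [← ((htc a).zpow_left j).eq, mul_inv_cancel_right]
    exact hm⟩
  set q := QuotientGroup.mk' N with hq
  obtain ⟨φ, hφ⟩ := lift_node (fun x => q (g x))
    (fun x => by rw [← map_mul, show g x * g x = 1 from Subtype.ext (nodePerm_sq x), map_one])
    (fun x z h => by
      simp only [← map_mul]
      exact congrArg q (Subtype.ext (nodePerm_braid x z h)))
    (fun x z h => (show Commute (g x) (g z) from Subtype.ext (nodePerm_comm x z h).eq).map q)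
    (by
      rw [← map_ev q, ← map_pow]
      exact (QuotientGroup.eq_one_iff _).2 (Subgroup.mem_zpowers t))
    (by
      rw [← map_ev q, ← map_pow,
        show ev g sevenA ^ 9 = 1 from Subtype.ext (by rw [Subgroup.coe_pow, hev, hA]; rfl), map_one])
    (by
      rw [← map_ev q, ← map_pow,
        show ev g sevenB ^ 9 = 1 from Subtype.ext (by rw [Subgroup.coe_pow, hev, hB]; rfl), map_one])
  have hsurj : Function.Surjective φ := by
    rw [← MonoidHom.range_eq_top, eq_top_iff,
      ← Subgroup.map_top_of_surjective q (QuotientGroup.mk'_surjective N), ← hgen,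
      MonoidHom.map_closure, Subgroup.closure_le]
    rintro _ ⟨_, ⟨x, rfl⟩, rfl⟩
    exact ⟨node x, hφ x⟩
  have hinj : Function.Injective φ := by
    rcases IsSimpleGroup.eq_bot_or_eq_top_of_normal φ.ker inferInstance with h | h
    · exact (MonoidHom.ker_eq_bot_iff φ).1 h
    · exfalso
      have hall : ∀ a : X, a ∈ N := fun a => by
        obtain ⟨b, hb⟩ := hsurj (q a)
        have h1 : φ b = 1 := MonoidHom.mem_ker.1 (h ▸ Subgroup.mem_top b)
        rw [h1] at hb
        exact (QuotientGroup.eq_one_iff a).1 hb.symm
      have hc : g .a * g .b = g .b * g .a := by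
        obtain ⟨i, hi⟩ := Subgroup.mem_zpowers_iff.1 (hall (g .a))
        rw [← hi]
        exact ((htc (g .b)).zpow_left i).eq
      have hbr : g .a * g .b * g .a = g .b * g .a * g .b :=
        Subtype.ext (nodePerm_braid .a .b rfl)
      rw [← hc] at hbr
      exact hab (congrArg Subtype.val (mul_left_cancel hbr))
  let e : Spor.Fi22 ≃* X ⧸ N := MulEquiv.ofBijective φ ⟨hinj, hsurj⟩
  let σ : X →* Spor.Fi22 := e.symm.toMonoidHom.comp q
  have hker : σ.ker = N := by
    rw [MonoidHom.ker_comp_of_injective q _ e.symm.injective]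
    exact QuotientGroup.ker_mk' N
  have hord : orderOf t = 3 := by
    haveI := Fact.mk Nat.prime_three
    refine orderOf_eq_prime (Subtype.ext ?_) fun h => hs1 ?_
    · rw [Subgroup.coe_pow, ht, hs3]; rfl
    · rw [← ht, h]; rfl
  have hab1 : ∀ l, (Abelianization.of (ev g l)) ^ 2 = 1 := fun l => by
    rw [map_ev]
    induction l with
    | nil => simp [ev]
    | cons x l ih =>
      rw [show ev (fun x => Abelianization.of (g x)) (x :: l) =
        Abelianization.of (g x) * ev (fun x => Abelianization.of (g x)) l by simp [ev], mul_pow, ih,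
        mul_one, pow_two, ← map_mul, show g x * g x = 1 from Subtype.ext (nodePerm_sq x), map_one]
  have htd : t ∈ commutator X := by
    rw [← Abelianization.ker_of X, MonoidHom.mem_ker, map_pow,
      show (10 : ℕ) = 2 * 5 from rfl, pow_mul, hab1, one_pow]
  refine ⟨X, inferInstance, inferInstance, σ, ⟨e.symm.surjective.comp (QuotientGroup.mk'_surjective N),
    ?_, ?_⟩, ?_⟩
  · rw [hker, hN, Subgroup.zpowers_le]
    exact Subgroup.mem_center_iff.2 fun a => (htc a).eq.symm
  · rw [hker, hN, Subgroup.zpowers_le]
    exact htd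
  · rw [hker, hN, Nat.card_zpowers, hord]

end Cfsg.Agent.Lib.Fi22Mult
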